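import Groth.Agent.PurDesc.Local
import Groth.Agent.Pi1X.FEtGlobal
import Groth.Prelude.Def_SGA2
import Mathlib.AlgebraicGeometry.Normalization
import Mathlib.AlgebraicGeometry.Morphisms.Smooth

/-!
# Descent of purity along faithfully flat quasi-compact morphisms
-/

set_option autoImplicit false
set_option linter.style.haveILetI false
set_option backward.isDefEq.respectTransparency false
set_option backward.isDefEq.respectTransparency.types false
universe u

open CategoryTheory CategoryTheory.Limits AlgebraicGeometry TopologicalSpace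

namespace Groth.Agent.PurDesc

/-- A version of essential surjectivity of restriction in terms of squares, insensitive to the
presentation of the open. -/
theorem exists_extension {O O' R : Scheme.{u}} (i : O' ⟶ O) [IsOpenImmersion i]
    (hi : (FEt.restrict i).EssSurj) (r : R ⟶ O) [IsOpenImmersion r]
    (hr : Set.range r = Set.range i) {W : Scheme.{u}} (w : W ⟶ R) (hw : FEt.prop w) :
    ∃ (Z : Scheme.{u}) (z : Z ⟶ O) (m : W ⟶ Z), FEt.prop z ∧ IsPullback m w z r := by
  let e : R ≅ O' := IsOpenImmersion.isoOfRangeEq r i hr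
  have hw' : FEt.prop (w ≫ e.hom) := FEt.prop.comp_mem _ _ hw ⟨inferInstance, inferInstance⟩
  let W' : FEt.Cat O' := MorphismProperty.Over.mk ⊤ (w ≫ e.hom) hw'
  obtain ⟨Z, ⟨a⟩⟩ := hi.mem_essImage W'
  let l : pullback Z.hom i ≅ W :=
    { hom := a.hom.left
      inv := a.inv.left
      hom_inv_id := congrArg (fun t => t.left) a.hom_inv_id
      inv_hom_id := congrArg (fun t => t.left) a.inv_hom_id }
  have hl : l.hom ≫ w ≫ e.hom = pullback.snd Z.hom i := MorphismProperty.Over.w a.hom
  refine ⟨Z.left, Z.hom, l.inv ≫ pullback.fst Z.hom i, Z.prop, ?_⟩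
  refine IsPullback.of_iso (IsPullback.of_hasPullback Z.hom i) l (Iso.refl _) e.symm (Iso.refl _)
    ?_ ?_ (by simp) ?_
  · simp
  · rw [← hl]; simp
  · simp [e]

theorem prop_appTop_iff {Q : ∀ {R S : Type u} [CommRing R] [CommRing S], (R →+* S) → Prop}
    (hQ : RingHom.RespectsIso Q) {A B : Scheme.{u}} (f : A ⟶ B) (V : B.Opens) :
    Q (f ∣_ V).appTop.hom ↔ Q (f.app V).hom := by
  have : (RingHom.toMorphismProperty Q).RespectsIso := RingHom.toMorphismProperty_respectsIso_iff.mp hQ
  have key := (RingHom.toMorphismProperty Q).arrow_mk_iso_iff (arrowResLEAppIso f V (f ⁻¹ᵁ V) le_rfl)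
  rw [Scheme.Hom.resLE_eq_morphismRestrict, ← Scheme.Hom.app_eq_appLE] at key
  exact key

variable {X X₁ : Scheme.{u}} [IsLocallyNoetherian X] (U : X.Opens) (f : X₁ ⟶ X)
  [Flat f] [Surjective f] [QuasiCompact f]

/-- Essential surjectivity descends. -/
theorem essSurj_descend
    (hU : ∀ x : X, x ∉ U → (2 : ℕ∞) ≤ LocCoh.depth (X.presheaf.stalk x) (X.presheaf.stalk x))
    (h : ∀ O : X₁.Opens, (FEt.restrict (X₁.homOfLE (inf_le_left : O ⊓ f ⁻¹ᵁ U ≤ O))).EssSurj)
    {U' : Scheme.{u}} (j : U' ⟶ X) [IsOpenImmersion j] (hj : Set.range j = U) :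
    (FEt.restrict j).EssSurj := by
  refine ⟨fun W => ?_⟩
  let w : W.left ⟶ U' := W.hom
  haveI : IsFinite w := W.prop.1
  haveI : Etale w := W.prop.2
  haveI : QuasiCompact j := inferInstance
  let g : W.left ⟶ X := w ≫ j
  let Z := g.normalization
  let π : Z ⟶ X := g.fromNormalization
  have hπ : FEt.prop π := by
    refine IsZariskiLocalAtTarget.of_iSup_eq_top (P := FEt.prop) (fun A : X.affineOpens => A.1)
      (iSup_affineOpens_eq_top X) fun A => ?_
    haveI : IsAffine (A.1 : Scheme.{u}) := A.2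
    haveI : IsAffine (π ⁻¹ᵁ A.1 : Scheme.{u}) := A.2.preimage π
    -- the ring of functions on the cover is finite étale
    have key : ((w ∣_ (j ⁻¹ᵁ A.1)) ≫ (j ∣_ A.1)).appTop.hom.Finite ∧
        ((w ∣_ (j ⁻¹ᵁ A.1)) ≫ (j ∣_ A.1)).appTop.hom.Etale := by
      haveI : CompactSpace (j ⁻¹ᵁ A.1 : Scheme.{u}) :=
        isCompact_iff_compactSpace.1 (j.isCompact_preimage A.2.isCompact)
      haveI : QuasiSeparatedSpace (j ⁻¹ᵁ A.1 : Scheme.{u}) :=
        quasiSeparatedSpace_of_quasiSeparated (j ∣_ A.1)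
      haveI : IsIso (j ∣_ A.1).appTop := by
        rw [ConcreteCategory.isIso_iff_bijective]
        refine Pi1X.appTop_bijective_of_depth _ fun a ha => ?_
        have ha' : A.1.ι a ∉ U := by
          intro hmem
          obtain ⟨y, hy⟩ : A.1.ι a ∈ Set.range j := hj ▸ hmem
          refine ha ⟨⟨y, show j y ∈ A.1 by rw [hy]; exact a.2⟩, A.1.ι.isOpenEmbedding.injective ?_⟩
          rw [← Scheme.Hom.comp_apply, morphismRestrict_ι, Scheme.Hom.comp_apply]
          exact hy
        exact (hU _ ha').trans (Pi1X.depth_stalk_le A.1.ι a)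
      obtain ⟨κ, hκ, O, hO, hcov⟩ : ∃ (κ : Type u) (_ : Finite κ) (O : κ → X₁.Opens),
          (∀ k, IsAffineOpen (O k)) ∧ (f ⁻¹ᵁ A.1 : X₁.Opens) = ⨆ k, O k := by
        obtain ⟨s, hs, he⟩ := isCompact_iff_finite_and_eq_biUnion_affineOpens.1
          (f.isCompact_preimage A.2.isCompact)
        haveI := hs.to_subtype
        refine ⟨s, inferInstance, fun k => k.1.1, fun k => k.1.2, Opens.ext ?_⟩
        rw [he, iSup_subtype']
      haveI : ∀ k, IsAffine (O k : Scheme.{u}) := hO
      have hle : ∀ k, O k ≤ f ⁻¹ᵁ A.1 := fun k => hcov ▸ le_iSup O k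
      let p : ∀ k, (O k : Scheme.{u}) ⟶ A.1.toScheme := fun k => f.resLE A.1 (O k) (hle k)
      haveI : ∀ k, Flat (p k) := fun k => inferInstance
      refine appTop_finite_etale (j ∣_ A.1) (w ∣_ (j ⁻¹ᵁ A.1)) (fun k => (O k : Scheme.{u})) p
        (fun a => ?_) fun k => ?_
      · obtain ⟨y, hy⟩ := f.surjective (A.1.ι a)
        have hyA : y ∈ f ⁻¹ᵁ A.1 := show f y ∈ A.1 by rw [hy]; exact a.2
        rw [hcov, Opens.mem_iSup] at hyA
        obtain ⟨k, hk⟩ := hyA
        refine ⟨k, ⟨y, hk⟩, A.1.ι.isOpenEmbedding.injective ?_⟩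
        rw [← Scheme.Hom.comp_apply, Scheme.Hom.resLE_comp_ι, Scheme.Hom.comp_apply]
        exact hy
      · let uA := j ∣_ A.1
        let M := pullback.map ((w ∣_ (j ⁻¹ᵁ A.1)) ≫ uA) (p k) uA (p k) (w ∣_ (j ⁻¹ᵁ A.1)) (𝟙 _) (𝟙 _)
          (by simp) (by simp)
        have hM : FEt.prop M := by
          have sq : IsPullback (pullback.fst ((w ∣_ (j ⁻¹ᵁ A.1)) ≫ uA) (p k)) M
              (w ∣_ (j ⁻¹ᵁ A.1)) (pullback.fst uA (p k)) := by
            refine IsPullback.of_bot ?_ (by simp [M]) (IsPullback.of_hasPullback uA (p k)).flip.flip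
            simpa [M] using IsPullback.of_hasPullback ((w ∣_ (j ⁻¹ᵁ A.1)) ≫ uA) (p k)
          exact MorphismProperty.of_isPullback (P := FEt.prop) sq
            ⟨inferInstance, inferInstance⟩
        haveI : IsOpenImmersion (pullback.snd uA (p k)) := inferInstance
        refine exists_extension _ (h (O k)) (pullback.snd uA (p k)) ?_ M hM
        rw [Scheme.Pullback.range_snd]
        ext y
        have hy : A.1.ι (p k y) = f ((O k).ι y) := by
          rw [← Scheme.Hom.comp_apply, Scheme.Hom.resLE_comp_ι, Scheme.Hom.comp_apply]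
        constructor
        · rintro ⟨x, hx⟩
          refine ⟨⟨(O k).ι y, y.2, ?_⟩, (O k).ι.isOpenEmbedding.injective ?_⟩
          · show f ((O k).ι y) ∈ U
            rw [← hy, ← hx, ← Scheme.Hom.comp_apply, morphismRestrict_ι, Scheme.Hom.comp_apply,
              ← SetLike.mem_coe, ← hj]
            exact ⟨_, rfl⟩
          · rw [← Scheme.Hom.comp_apply, Scheme.homOfLE_ι]
            rfl
        · rintro ⟨x, rfl⟩
          obtain ⟨z, hz⟩ : f ((O k).ι (X₁.homOfLE (inf_le_left : O k ⊓ f ⁻¹ᵁ U ≤ O k) x)) ∈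
              Set.range j := by
            rw [hj, ← Scheme.Hom.comp_apply (X₁.homOfLE _), Scheme.homOfLE_ι]
            exact x.2.2
          refine ⟨⟨z, show j z ∈ A.1 by rw [hz, ← hy]; exact Subtype.coe_prop _⟩,
            A.1.ι.isOpenEmbedding.injective ?_⟩
          refine Eq.trans ?_ hy.symm
          rw [← Scheme.Hom.comp_apply, morphismRestrict_ι, Scheme.Hom.comp_apply]
          exact hz
    rw [← morphismRestrict_comp, prop_appTop_iff RingHom.finite_respectsIso,
      prop_appTop_iff RingHom.Etale.respectsIso] at key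
    have hApp : (g.app A.1).hom.Finite ∧ (g.app A.1).hom.Etale := key
    letI := (g.app A.1).hom.toAlgebra
    haveI : Module.Finite Γ(X, A.1) Γ(W.left, g ⁻¹ᵁ A.1) := hApp.1
    have htop : integralClosure Γ(X, A.1) Γ(W.left, g ⁻¹ᵁ A.1) = ⊤ :=
      eq_top_iff.2 fun b _ => Algebra.IsIntegral.isIntegral b
    let e : CommRingCat.of (integralClosure Γ(X, A.1) Γ(W.left, g ⁻¹ᵁ A.1)) ≅ Γ(W.left, g ⁻¹ᵁ A.1) :=
      ((Subalgebra.equivOfEq _ _ htop).trans Subalgebra.topEquiv).toRingEquiv.toCommRingCatIso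
    have he : π.app A.1 = g.app A.1 ≫ e.inv ≫ (g.normalizationObjIso A.2).inv := by
      rw [Scheme.Hom.fromNormalization_app (f := g) A.2, ← Category.assoc]
      congr 1
    constructor
    · rw [HasAffineProperty.iff_of_isAffine (P := @IsFinite)]
      refine ⟨inferInstance, ?_⟩
      rw [prop_appTop_iff RingHom.finite_respectsIso, he, CommRingCat.hom_comp,
        RingHom.finite_respectsIso.cancel_right_isIso]
      exact hApp.1
    · rw [HasRingHomProperty.iff_of_isAffine (P := @Etale),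
        prop_appTop_iff RingHom.Etale.respectsIso, he, CommRingCat.hom_comp,
        RingHom.Etale.respectsIso.cancel_right_isIso]
      exact hApp.2
  -- it restricts to the given cover
  have hsq : IsPullback (𝟙 W.left) w g j := by
    refine ⟨⟨by simp [g]⟩, ⟨PullbackCone.IsLimit.mk _ (fun s => s.fst) (fun s => by simp)
      (fun s => ?_) fun s m h₁ _ => by simpa using h₁⟩⟩
    exact (cancel_mono j).1 ((Category.assoc _ _ _).trans s.condition)
  let σ : W.left ≅ pullback g j := hsq.isoPullback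
  have hσ : σ.hom ≫ pullback.snd g j = w := hsq.isoPullback_hom_snd
  haveI : IsIntegralHom (pullback.snd g j) := by
    rw [show pullback.snd g j = σ.inv ≫ w by rw [← hσ, Iso.inv_hom_id_assoc]]
    infer_instance
  let m : pullback g j ⟶ pullback π j :=
    (pullback.snd g j).toNormalization ≫ g.normalizationPullback j
  have hm : m ≫ pullback.snd π j = pullback.snd g j := by simp [m, π]
  haveI : IsIso m := inferInstance
  refine ⟨MorphismProperty.Over.mk ⊤ π hπ, ⟨?_⟩⟩
  refine (MorphismProperty.Over.isoMk (σ ≪≫ asIso m) ?_).symm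
  show (σ.hom ≫ m) ≫ pullback.snd π j = w
  rw [Category.assoc, hm, hσ]

end Groth.Agent.PurDesc

namespace Groth.Agent.PurDesc

/-- Transport of essential surjectivity of restriction to an isomorphic open immersion. -/
theorem essSurj_transport {O O' O'' R : Scheme.{u}} (i : O' ⟶ O) [IsOpenImmersion i]
    (hi : (FEt.restrict i).EssSurj) (e : O'' ≅ O) (r : R ⟶ O'') [IsOpenImmersion r]
    (hr : Set.range (r ≫ e.hom) = Set.range i) : (FEt.restrict r).EssSurj := by
  refine ⟨fun W => ?_⟩
  obtain ⟨Z, z, m, hz, hsq⟩ := exists_extension i hi (r ≫ e.hom) hr W.hom W.prop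
  have hz' : FEt.prop (z ≫ e.inv) := FEt.prop.comp_mem _ _ hz ⟨inferInstance, inferInstance⟩
  have hsq' : IsPullback m W.hom (z ≫ e.inv) r :=
    hsq.of_iso (Iso.refl _) (Iso.refl _) (Iso.refl _) e.symm (by simp) (by simp) (by simp) (by simp)
  exact ⟨MorphismProperty.Over.mk ⊤ (z ≫ e.inv) hz', ⟨(MorphismProperty.Over.isoMk hsq'.isoPullback
    hsq'.isoPullback_hom_snd).symm⟩⟩

end Groth.Agent.PurDesc
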