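import Groth.Agent.DescLib.QAffineDesc
import Groth.Agent.DescLib.SigmaLocal
import Groth.Agent.EtFound.Descent
import Mathlib.AlgebraicGeometry.Morphisms.LocalFlatDescent
import Groth.Prelude.Def_FEt

/-!
# Descent of extendability of finite étale covers, affine base
-/

set_option autoImplicit false
set_option linter.style.haveILetI false
set_option backward.isDefEq.respectTransparency false
set_option backward.isDefEq.respectTransparency.types false
universe u

open CategoryTheory CategoryTheory.Limits AlgebraicGeometry

namespace Groth.Agent.PurDesc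

open Groth.Agent.DescLib

/-- The affine hull of a cover of an open with the same functions is finite étale as soon as this
holds after faithfully flat base change. -/
theorem appTop_finite_etale {S US W : Scheme.{u}} [IsAffine S] (u : US ⟶ S) (w : W ⟶ US)
    [CompactSpace US] [QuasiSeparatedSpace US] [IsIso u.appTop] [IsFinite w]
    {κ : Type u} [Finite κ] (O : κ → Scheme.{u}) [∀ k, IsAffine (O k)] (p : ∀ k, O k ⟶ S)
    [∀ k, Flat (p k)] (hp : ∀ x : S, ∃ k, x ∈ Set.range (p k))
    (hext : ∀ k, ∃ (Z : Scheme.{u}) (z : Z ⟶ O k) (m : pullback (w ≫ u) (p k) ⟶ Z),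
      FEt.prop z ∧ IsPullback m
        (pullback.map (w ≫ u) (p k) u (p k) w (𝟙 _) (𝟙 _) (by simp) (by simp))
        z (pullback.snd u (p k))) :
    (w ≫ u).appTop.hom.Finite ∧ (w ≫ u).appTop.hom.Etale := by
  let s : W ⟶ S := w ≫ u
  haveI : CompactSpace W := QuasiCompact.compactSpace_of_compactSpace w
  haveI : QuasiSeparatedSpace W := quasiSeparatedSpace_of_quasiSeparated w
  let c : Spec Γ(W, ⊤) ⟶ S := Spec.map s.appTop ≫ S.isoSpec.inv
  have hc : W.toSpecΓ ≫ c = s := by
    show W.toSpecΓ ≫ _ ≫ _ = s
    rw [← Scheme.toSpecΓ_naturality_assoc]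
    exact (congrArg (s ≫ ·) S.isoSpec.hom_inv_id).trans (Category.comp_id s)
  haveI : IsIso W.toSpecΓ.appTop := by rw [Scheme.toSpecΓ_appTop]; infer_instance
  have hk : ∀ k, FEt.prop (pullback.snd c (p k)) := by
    intro k
    obtain ⟨Z, z, m, hz, hsq⟩ := hext k
    haveI : IsFinite z := hz.1
    haveI : Etale z := hz.2
    haveI : IsAffine Z := isAffine_of_isAffineHom z
    haveI : CompactSpace (pullback u (p k) : Scheme.{u}) :=
      QuasiCompact.compactSpace_of_compactSpace (pullback.fst u (p k))
    haveI : QuasiSeparatedSpace (pullback u (p k) : Scheme.{u}) :=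
      quasiSeparatedSpace_of_quasiSeparated (pullback.fst u (p k))
    -- functions on the base open
    have h1 : IsIso (pullback.snd u (p k)).appTop := by
      haveI := isIso_appTop_baseChange (p k) u u (𝟙 S) (Category.comp_id u)
      have e : pullback.map u (p k) (𝟙 S) (p k) u (𝟙 _) (𝟙 S) (by simp) (by simp) ≫
          pullback.snd (𝟙 S) (p k) = pullback.snd u (p k) := by simp
      rw [← e, Scheme.Hom.comp_appTop]
      infer_instance
    -- functions on the cover of the base open
    haveI hm : IsIso m.appTop := by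
      haveI := isIso_appTop_baseChange z (pullback.snd u (p k)) (pullback.snd u (p k)) (𝟙 (O k))
        (Category.comp_id _)
      have e : m = hsq.flip.isoPullback.hom ≫
          pullback.map (pullback.snd u (p k)) z (𝟙 (O k)) z (pullback.snd u (p k)) (𝟙 _) (𝟙 _)
            (by simp) (by simp) ≫ pullback.snd (𝟙 (O k)) z := by
        simp
      rw [e, Scheme.Hom.comp_appTop, Scheme.Hom.comp_appTop]
      infer_instance
    -- the affine hull
    let mC : pullback s (p k) ⟶ pullback c (p k) :=
      pullback.map s (p k) c (p k) W.toSpecΓ (𝟙 _) (𝟙 _) (by simp [hc]) (by simp)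
    haveI : IsIso mC.appTop := isIso_appTop_baseChange (p k) W.toSpecΓ s c hc
    have hmz : m ≫ z = pullback.snd s (p k) := by rw [hsq.w]; simp [s]
    have hmC : mC ≫ pullback.snd c (p k) = pullback.snd s (p k) := by simp [mC]
    obtain ⟨a, ha⟩ := exists_extend_of_isIso_appTop mC m
    obtain ⟨b, hb⟩ := exists_extend_of_isIso_appTop m mC
    let e : pullback c (p k) ≅ Z :=
      { hom := a
        inv := b
        hom_inv_id := hom_ext_of_isIso_appTop mC (by rw [reassoc_of% ha, hb, Category.comp_id])
        inv_hom_id := hom_ext_of_isIso_appTop m (by rw [reassoc_of% hb, ha, Category.comp_id]) }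
    have he : a ≫ z = pullback.snd c (p k) :=
      hom_ext_of_isIso_appTop mC (by rw [reassoc_of% ha, hmz, hmC])
    refine (FEt.prop.arrow_mk_iso_iff (Arrow.isoMk e (Iso.refl _) ?_)).2 hz
    exact he.trans (Category.comp_id _).symm
  -- descend along the faithfully flat `∐ O k ⟶ S`
  let q : (∐ O) ⟶ S := Sigma.desc p
  haveI : Flat q := IsZariskiLocalAtSource.sigmaDesc fun k => inferInstance
  haveI : Surjective q := ⟨fun x => by
    obtain ⟨k, y, hy⟩ := hp x
    exact ⟨Sigma.ι O k y, by rw [← Scheme.Hom.comp_apply, Sigma.ι_desc]; exact hy⟩⟩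
  haveI : QuasiCompact q := inferInstance
  have hloc : ∀ P : MorphismProperty Scheme.{u}, IsZariskiLocalAtTarget P →
      (∀ k, P (pullback.snd c (p k))) → P (pullback.snd c q) := by
    intro P _ h
    refine IsZariskiLocalAtTarget.of_openCover (sigmaOpenCover O) fun k => ?_
    refine (P.arrow_mk_iso_iff ?_).2 (h k)
    refine Arrow.isoMk (pullbackLeftPullbackSndIso c q _ ≪≫
      pullback.congrHom rfl (Sigma.ι_desc p k)) (Iso.refl _) ?_
    simp [Scheme.Cover.pullbackHom]
    exact pullbackLeftPullbackSndIso_hom_snd c q _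
  have hq : (@Surjective ⊓ @Flat ⊓ @QuasiCompact : MorphismProperty Scheme.{u}) q :=
    ⟨⟨inferInstance, inferInstance⟩, inferInstance⟩
  have := Groth.Agent.EtFound.fpqc_isFinite.{u}
  haveI hf : IsFinite c := MorphismProperty.of_pullback_snd_of_descendsAlong (P := @IsFinite) hq
    (hloc @IsFinite inferInstance fun k => (hk k).1)
  haveI he : Etale c := MorphismProperty.of_pullback_snd_of_descendsAlong (P := @Etale) hq
    (hloc @Etale inferInstance fun k => (hk k).2)
  have hc' : (Spec.map s.appTop) = c ≫ S.isoSpec.hom := by simp [c]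
  constructor
  · have : IsFinite (Spec.map s.appTop) := by rw [hc']; infer_instance
    exact (IsFinite.SpecMap_iff _).1 this
  · have : Etale (Spec.map s.appTop) := by rw [hc']; infer_instance
    exact (HasRingHomProperty.Spec_iff (P := @Etale)).1 this

end Groth.Agent.PurDesc
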